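import Groth.Agent.AVTheta.Eps
import Groth.Agent.ThetaLib.KernelDesc
import Groth.Agent.AVQuot.EtaleSub

/-!
# A symmetric invertible module descends along an isogeny with isotropic étale kernel of odd exponent
-/

set_option autoImplicit false
set_option backward.isDefEq.respectTransparency false
set_option backward.isDefEq.respectTransparency.types false
set_option linter.style.haveILetI false
set_option maxHeartbeats 1000000

universe u

open CategoryTheory CategoryTheory.Limits MonoidalCategory CartesianMonoidalCategory MonObj AlgebraicGeometry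
open ThetaGrp (transl thetaObj thetaPts IsOverPt bcLift IsBaseChange)

noncomputable section

namespace Groth.Agent.AVTheta

open ThetaLib
open W7Cube (pull pull_pull pull_cls pc pull_pc)
attribute [local instance] W7Cube.law

variable {k Ω : Type u} [Field k] [Field Ω] [Algebra k Ω]

/-- Functions on a finite reduced scheme are determined by their values at geometric points. -/
theorem fn_eq_of_points [IsAlgClosed Ω] (Z : Over (Spec (CommRingCat.of k))) [IsFinite Z.hom] [IsReduced Z.left]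
    (a b : Γ(Z.left, ⊤)) (h : ∀ w : SGA7.pt (K := k) Ω ⟶ Z, w.left.appTop a = w.left.appTop b) : a = b := by
  rw [← sub_eq_zero, ← basicOpen_eq_bot_iff (X := Z.left)]
  by_contra hne
  obtain ⟨z, hz⟩ : ∃ z, z ∈ Z.left.basicOpen (a - b) := by
    by_contra hcon
    push Not at hcon
    exact hne (le_bot_iff.1 fun z hz => (hcon z hz).elim)
  obtain ⟨w, hw⟩ := AVQuot.exists_point_over (Ω := Ω) Z z
  have h1 : IsLocalRing.closedPoint Ω ∈ w.left ⁻¹ᵁ Z.left.basicOpen (a - b) := by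
    change w.left (IsLocalRing.closedPoint Ω) ∈ Z.left.basicOpen (a - b)
    rw [hw]; exact hz
  have h0 : w.left.appTop (a - b) = 0 := by rw [map_sub, h, sub_self]
  have e := Scheme.preimage_basicOpen_top w.left (a - b)
  erw [h0] at e
  rw [e, Scheme.basicOpen_zero] at h1
  exact h1

variable {X : Over (Spec (CommRingCat.of k))} [GrpObj X] [IsCommMonObj X] [IsProper X.hom]
  [GeometricallyIntegral X.hom]
  {Y : Over (Spec (CommRingCat.of k))} [GrpObj Y] [IsCommMonObj Y] [IsProper Y.hom] [GeometricallyIntegral Y.hom]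

/-- **descent of a symmetric module** -/
theorem exists_desc_symm [IsAlgClosed Ω] (q : X ⟶ Y) [IsMonHom q] (hq : Surjective q.left)
    {N : Over (Spec (CommRingCat.of k))} [GrpObj N] [IsFinite N.hom] [IsReduced (N ⊗ N).left] (i : N ⟶ X)
    [IsMonHom i] [Mono i] (hN : AlgGrp.IsKernel i q) {n : ℕ} (hn : Odd n) (hin : i ^ n = 1)
    {L : X.left.Modules} (hL : PicF.IsInvertible L)
    (hmum : AVAmple.mum (PicGrp.cls L hL) i = 1)
    (e : (Scheme.Modules.pullback ((𝟙 X)⁻¹ : X ⟶ X).left).obj L ≅ L)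
    (hiso : ∀ x y : SGA7.pt (K := k) Ω ⟶ X, x ≫ q = 1 → y ≫ q = 1 → IsEps L x y 1) :
    ∃ M : Y.left.Modules, PicF.IsInvertible M ∧ Nonempty ((Scheme.Modules.pullback q.left).obj M ≅ L) := by
  let f : X ⟶ X := (𝟙 X)⁻¹
  have hf : ∀ {T : Over (Spec (CommRingCat.of k))} (x : T ⟶ X), x ≫ f = x⁻¹ := fun x => by
    rw [GrpObj.comp_inv, Category.comp_id]
  have hab : ∀ {T : Over (Spec (CommRingCat.of k))} (a c : T ⟶ N), a * c = c * a := fun a c => by
    rw [← cancel_mono i, MonObj.mul_comp, MonObj.mul_comp, _root_.mul_comm]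
  obtain ⟨β₀, hβ₀⟩ := exists_lift_pt hL i hmum (by
    rw [pc, pull_cls]
    exact cls_eq_one_of_isFinite N.hom _ _)
  choose b hb hbx using fun (T : Over (Spec (CommRingCat.of k))) (a : T ⟶ N) => exists_bc (L := L) a hβ₀
  have hbn : ∀ (T T' : Over (Spec (CommRingCat.of k))) (t : T' ⟶ T) (a : T ⟶ N),
      IsBaseChange (b T' (t ≫ a)) t (b T a) := fun T T' t a => by
    obtain ⟨δ, hδ, -⟩ := exists_bc t (hbx T a)
    exact bc_unique (bc_trans hδ (hb T a)) (hb T' (t ≫ a)) ▸ hδ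
  have hex : ∀ (T : Over (Spec (CommRingCat.of k))) (a : T ⟶ N),
      ∃ d : thetaPts X L T, IsDescPt f e d (b T a) ∧ IsOverPt d (a ≫ i)⁻¹ := fun T a =>
    exists_descPt f e (x := (a ≫ i)⁻¹) (by rw [hf, inv_inv]; exact hbx T a)
  choose d hd hdx using hex
  have hdn : ∀ (T T' : Over (Spec (CommRingCat.of k))) (t : T' ⟶ T) (a : T ⟶ N),
      IsBaseChange (d T' (t ≫ a)) t (d T a) := fun T T' t a => by
    obtain ⟨δ, hδ, hδx⟩ := exists_bc t (hdx T a)
    have h := isDescPt_bc f e (x := (a ≫ i)⁻¹) (by rw [hf, inv_inv]; exact hbx T a) (hd T a) (hdx T a) hδ (hbn T T' t a)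
    rw [GrpObj.comp_inv, ← Category.assoc] at hδx
    exact isDescPt_unique f e h (hd T' (t ≫ a)) hδx (hdx T' (t ≫ a)) ▸ hδ
  let Ψ : ∀ T : Over (Spec (CommRingCat.of k)), (T ⟶ N) → thetaPts X L T := fun T a => b T a * (d T a)⁻¹
  have hΨx : ∀ (T : Over (Spec (CommRingCat.of k))) (a : T ⟶ N), IsOverPt (Ψ T a) ((a ≫ i) ^ 2) := fun T a => by
    have := isOverPt_mul (hbx T a) (isOverPt_inv (hdx T a))
    rwa [inv_inv, ← pow_two] at this
  have hΨn : ∀ (T T' : Over (Spec (CommRingCat.of k))) (t : T' ⟶ T) (a : T ⟶ N),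
      IsBaseChange (Ψ T' (t ≫ a)) t (Ψ T a) := fun T T' t a => bc_mul (hbn T T' t a) (bc_inv (hdn T T' t a))
  have hker : ∀ {T : Over (Spec (CommRingCat.of k))} (a : T ⟶ N), (a ≫ i) ≫ q = 1 := fun a => by
    rw [Category.assoc, hN.w, ← Category.assoc, toUnit_unique (a ≫ toUnit N) (toUnit _), Hom.one_def]
  have hpt : ∀ a c : SGA7.pt (K := k) Ω ⟶ N, Ψ _ (a * c) = Ψ _ a * Ψ _ c := by
    intro a c
    have hbac : IsOverPt (b _ a * b _ c) ((a * c) ≫ i) := by
      have := isOverPt_mul (hbx _ a) (hbx _ c)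
      rwa [← MonObj.mul_comp, hab c a] at this
    have hdac : IsOverPt (d _ a * d _ c) ((a * c) ≫ i)⁻¹ := by
      have := isOverPt_mul (hdx _ a) (hdx _ c)
      rwa [← mul_inv, ← MonObj.mul_comp, hab c a] at this
    obtain ⟨r, hr, -⟩ := exists_ratio hL (fnT_surjective _) (hbx _ (a * c)) hbac
    have h1 := isRatio_inv (isRatio_desc f e (hdx _ (a * c)) hdac rfl (hd _ (a * c))
      (isDescPt_mul f e (hd _ a) (hd _ c)) hr)
    have h2 := hr.mul_right (d _ (a * c))⁻¹
    have h3 := h1.mul_left (b _ a * b _ c)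
    have hc : (d _ a)⁻¹ * Ψ _ c = Ψ _ c * (d _ a)⁻¹ := (isCom_one_iff hL).1
      (hiso _ _ (by rw [inv_inv]; exact hker a) (by rw [MonObj.pow_comp, hker, one_pow]) _ _
        (isOverPt_inv (hdx _ a)) (hΨx _ c))
    have h4 : Ψ _ a * Ψ _ c = b _ a * b _ c * (d _ a * d _ c)⁻¹ := by
      calc Ψ _ a * Ψ _ c = b _ a * ((d _ a)⁻¹ * Ψ _ c) := _root_.mul_assoc _ _ _
        _ = b _ a * (Ψ _ c * (d _ a)⁻¹) := by rw [hc]
        _ = _ := by simp only [Ψ, _root_.mul_inv_rev, _root_.mul_assoc]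
    rw [h4]
    exact pts_ext (Eq.trans h2 (Eq.symm h3))
  haveI : IsFinite (N ⊗ N).hom := inferInstanceAs (IsFinite (pullback.fst N.hom N.hom ≫ N.hom))
  have huniv : Ψ _ (fst N N * snd N N) = Ψ _ (fst N N) * Ψ _ (snd N N) := by
    have hx : IsOverPt (Ψ (N ⊗ N) (fst N N) * Ψ _ (snd N N)) (((fst N N * snd N N) ≫ i) ^ 2) := by
      have := isOverPt_mul (hΨx _ (fst N N)) (hΨx _ (snd N N))
      rwa [← mul_pow, ← MonObj.mul_comp, hab (snd N N)] at this
    obtain ⟨t, ht, -⟩ := exists_ratio hL (fnT_surjective _) (hΨx _ (fst N N * snd N N)) hx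
    suffices h : t = 1 by
      refine pts_ext ?_
      rw [IsRatio, h, fnT_one, act_one] at ht
      exact ht
    refine fn_eq_of_points (Ω := Ω) (N ⊗ N) t 1 fun w => ?_
    rw [map_one]
    have h1 := hΨn _ _ w (fst N N * snd N N)
    rw [MonObj.comp_mul, hpt] at h1
    exact (ht.bc h1 (bc_mul (hΨn _ _ w (fst N N)) (hΨn _ _ w (snd N N)))).unique hL (isRatio_refl _)
  have hmulΨ : ∀ (T : Over (Spec (CommRingCat.of k))) (a c : T ⟶ N), Ψ T (a * c) = Ψ T a * Ψ T c := fun T a c => by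
    have h1 := hΨn _ T (lift a c) (fst N N * snd N N)
    rw [MonObj.comp_mul, lift_fst, lift_snd, huniv] at h1
    have h2 := bc_mul (hΨn _ T (lift a c) (fst N N)) (hΨn _ T (lift a c) (snd N N))
    rw [lift_fst, lift_snd] at h2
    exact bc_unique h1 h2
  obtain ⟨m, rfl⟩ := hn
  refine exists_desc_of_lifts q hq hN hL (fun T a => Ψ T (a ^ (m + 1))) (fun T a => ?_)
    (fun T T' t a => ?_) fun T a c => ?_
  · have h := hΨx T (a ^ (m + 1))
    have h0 : (a ≫ i) ^ (2 * m + 1) = 1 := by rw [← MonObj.comp_pow, hin, MonObj.comp_one]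
    have h1 : ((a ^ (m + 1)) ≫ i) ^ 2 = a ≫ i := by
      rw [MonObj.pow_comp, ← pow_mul, show (m + 1) * 2 = (2 * m + 1) + 1 by omega, pow_add, pow_one, h0,
        _root_.one_mul]
    rwa [h1] at h
  · have h := hΨn T T' t (a ^ (m + 1))
    rwa [MonObj.comp_pow] at h
  · have hcomm : Commute a c := hab a c
    rw [hcomm.mul_pow, hmulΨ]

end Groth.Agent.AVTheta
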