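import Groth.Agent.AVTheta.Eps
import Groth.Agent.AVQuot.TateArg
import Groth.Agent.WeilLib.FrobPow

/-!
# The l-adic pairing of a symmetric class on the Tate module
-/

set_option autoImplicit false
set_option backward.isDefEq.respectTransparency false
set_option backward.isDefEq.respectTransparency.types false
set_option linter.style.haveILetI false
set_option linter.unusedSectionVars false
set_option maxHeartbeats 1000000

universe u

open CategoryTheory MonoidalCategory CartesianMonoidalCategory MonObj GrpObj AlgebraicGeometry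

noncomputable section

namespace Groth.Agent.AVTheta

open ThetaLib
open W7Cube (pull pull_pull pull_cls pc pull_pc)
attribute [local instance] W7Cube.law

variable {k : Type u} (Ω : Type u) [Field k] [Field Ω] [Algebra k Ω]
variable {X : Over (Spec (CommRingCat.of k))} [GrpObj X] [IsCommMonObj X] [IsProper X.hom] [GeometricallyIntegral X.hom]

/-- A module of class `c ^ N`. -/
def Ln (c : PicLoc.PicSet X.left) (N : ℕ) : X.left.Modules := (PicGrp.exists_eq_cls (c ^ N)).choose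

theorem isInvertible_Ln (c : PicLoc.PicSet X.left) (N : ℕ) : PicF.IsInvertible (Ln c N) :=
  (PicGrp.exists_eq_cls (c ^ N)).choose_spec.choose

theorem cls_Ln (c : PicLoc.PicSet X.left) (N : ℕ) : PicGrp.cls (Ln c N) (isInvertible_Ln c N) = c ^ N :=
  (PicGrp.exists_eq_cls (c ^ N)).choose_spec.choose_spec.symm

theorem mum_pow (c : PicLoc.PicSet X.left) {T : Over (Spec (CommRingCat.of k))} (x : T ⟶ X) (n : ℕ) :
    AVAmple.mum c (x ^ n) = AVAmple.mum c x ^ n := by
  induction n with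
  | zero => rw [pow_zero, pow_zero, AVAmple.mum_one]
  | succ n ih => rw [pow_succ, pow_succ, AVAmple.mum_mul, ih]

theorem mum_pow_class (c : PicLoc.PicSet X.left) {T : Over (Spec (CommRingCat.of k))} (x : T ⟶ X) (n : ℕ) :
    AVAmple.mum (c ^ n) x = AVAmple.mum c x ^ n := by
  simp only [AVAmple.mum, W7Cube.pc, map_pow, mul_pow, inv_pow]

theorem mum_Ln (c : PicLoc.PicSet X.left) {T : Over (Spec (CommRingCat.of k))} (x : T ⟶ X) {N : ℕ} (hx : x ^ N = 1) :
    AVAmple.mum (PicGrp.cls (Ln c N) (isInvertible_Ln c N)) x = 1 := by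
  rw [cls_Ln, mum_pow_class, ← mum_pow, hx, AVAmple.mum_one]

theorem hasLift_Ln (c : PicLoc.PicSet X.left) (x : SGA7.pt (K := k) Ω ⟶ X) {N : ℕ} (hx : x ^ N = 1) :
    HasLift (Ln c N) x :=
  exists_lift_pt (isInvertible_Ln c N) x (mum_Ln c x hx) (by
    rw [W7Cube.pc, pull_cls]
    exact cls_eq_one_of_isFinite (k := Ω) (𝟙 (Spec (CommRingCat.of Ω))) _ _)

/-- Inverse images of a symmetric class along multiplications. -/
theorem pc_mul_sq (c : PicLoc.PicSet X.left) (hc : pc c (𝟙 X)⁻¹ = c) (m : ℕ) : pc c (𝟙 X ^ m) = c ^ (m * m) := by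
  rw [W7Cube.pc_pow, hc, ← pow_add]
  congr 1
  cases m with
  | zero => rfl
  | succ r =>
    rw [W7Cube.tri_succ, Nat.add_sub_cancel, Nat.mul_comm (r + 1) r]
    have := Nat.two_mul_div_two_of_even (Nat.even_mul_succ_self r)
    nlinarith

/-- The modules of a symmetric class pull back to each other along multiplications. -/
theorem nonempty_pull_Ln (c : PicLoc.PicSet X.left) (hc : pc c (𝟙 X)⁻¹ = c) (m N : ℕ) :
    Nonempty ((Scheme.Modules.pullback (𝟙 X ^ m : X ⟶ X).left).obj (Ln c N) ≅ Ln c (m * m * N)) := by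
  rw [← PicGrp.cls_eq_cls_iff (PicLoc.isInvertible_pullback _ (isInvertible_Ln c N)) (isInvertible_Ln c _), cls_Ln,
    ← pull_cls _ _ (isInvertible_Ln c N), cls_Ln, map_pow, pow_mul]
  exact congrArg (· ^ N) (pc_mul_sq c hc m)

/-- A symmetric class has symmetric modules. -/
theorem nonempty_inv_Ln (c : PicLoc.PicSet X.left) (hc : pc c (𝟙 X)⁻¹ = c) (N : ℕ) :
    Nonempty ((Scheme.Modules.pullback ((𝟙 X)⁻¹ : X ⟶ X).left).obj (Ln c N) ≅ Ln c N) := by
  rw [← PicGrp.cls_eq_cls_iff (PicLoc.isInvertible_pullback _ (isInvertible_Ln c N)) (isInvertible_Ln c N),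
    ← pull_cls _ _ (isInvertible_Ln c N), cls_Ln, map_pow]
  exact congrArg (· ^ N) hc

/-- Functions on a geometric point are scalars. -/
def ptVal : Γ((SGA7.pt (K := k) Ω).left, ⊤) ≃+* Ω := (Scheme.ΓSpecIso (CommRingCat.of Ω)).commRingCatIsoToRingEquiv

theorem ptVal_specAut (σ : Ω ≃ₐ[k] Ω) (t : Γ((SGA7.pt (K := k) Ω).left, ⊤)) :
    ptVal Ω ((SGA7.specAut σ).left.appTop t) = σ (ptVal Ω t) :=
  congrArg (fun f => f.hom t) (Scheme.ΓSpecIso_naturality (CommRingCat.ofHom (σ : Ω →+* Ω)))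

variable (l : ℕ)

/-- The value of the pairing of a class at level `N`. -/
def epsVal (c : PicLoc.PicSet X.left) (N : ℕ) (x y : SGA7.pt (K := k) Ω ⟶ X) (t : Ω) : Prop :=
  IsEps (Ln c N) x y ((ptVal Ω).symm t)

theorem exists_roots [IsAlgClosed Ω] (hl : 0 < l) (hlΩ : (l : Ω) ≠ 0) :
    ∃ ζ : ℕ → Ω, ∀ n, IsPrimitiveRoot (ζ n) (l ^ (2 * n)) ∧ ζ (n + 1) ^ (l * l) = ζ n := by
  haveI : NeZero (l : Ω) := ⟨hlΩ⟩
  let P : ℕ → Type u := fun n => {z : Ω // IsPrimitiveRoot z (l ^ (2 * n))}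
  have step : ∀ n (z : P n), ∃ w : P (n + 1), w.1 ^ (l * l) = z.1 := by
    rintro n ⟨z, hz⟩
    haveI : NeZero (l ^ (2 * n)) := ⟨pow_ne_zero _ hl.ne'⟩
    haveI : NeZero ((l ^ (2 * (n + 1)) : ℕ) : Ω) := ⟨by rw [Nat.cast_pow]; exact pow_ne_zero _ hlΩ⟩
    obtain ⟨et, hη⟩ := HasEnoughRootsOfUnity.exists_primitiveRoot Ω (l ^ (2 * (n + 1)))
    have hη' : IsPrimitiveRoot (et ^ (l * l)) (l ^ (2 * n)) :=
      hη.pow (pow_pos hl _) (by rw [show 2 * (n + 1) = 2 + 2 * n by ring, pow_add, pow_two])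
    obtain ⟨i, -, hi, hiz⟩ := (hη'.isPrimitiveRoot_iff (R := Ω) (k := l ^ (2 * n))).1 hz
    by_cases h0 : n = 0
    · subst h0
      refine ⟨⟨et, hη⟩, ?_⟩
      rw [mul_zero, pow_zero, IsPrimitiveRoot.one_right_iff] at hz hη'
      show et ^ (l * l) = z
      rw [hη', hz]
    · refine ⟨⟨et ^ i, hη.pow_of_coprime i ?_⟩, by show (et ^ i) ^ (l * l) = z; rw [← hiz, ← pow_mul, ← pow_mul, Nat.mul_comm]⟩
      exact Nat.Coprime.pow_right _ (hi.coprime_dvd_right (dvd_pow_self l (by omega)))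
  choose w hw using step
  let z : ∀ n, P n := fun n => Nat.rec (motive := P) ⟨1, by simp⟩ (fun n z => w n z) n
  exact ⟨fun n => (z n).1, fun n => ⟨(z n).2, hw n (z n)⟩⟩

variable [Fact l.Prime]

/-- **The pairing**: a bilinear alternating form whose vanishing kills all commutators. -/
theorem exists_pairing [IsAlgClosed Ω] (hl : (l : k) ≠ 0) (c : PicLoc.PicSet X.left) (hc : pc c (𝟙 X)⁻¹ = c) :
    ∃ E : AbDual.TateMod X l (SGA7.pt (K := k) Ω) →ₗ[ℤ_[l]] AbDual.TateMod X l (SGA7.pt (K := k) Ω) →ₗ[ℤ_[l]] ℤ_[l],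
      (∀ z, E z z = 0) ∧
      (∀ z w, E z w = 0 → ∀ j : ℕ, IsEps (Ln c (l ^ (2 * j)))
        (AbDual.TateMod.component X l (SGA7.pt (K := k) Ω) (2 * j) z).toMul
        (AbDual.TateMod.component X l (SGA7.pt (K := k) Ω) (2 * j) w).toMul 1) ∧
      ∀ (σ : Ω ≃ₐ[k] Ω) (q : ℕ), (∀ a : Ω, σ a = a ^ q) → ∀ z w z' w' : AbDual.TateMod X l (SGA7.pt (K := k) Ω),
        (∀ m, (AbDual.TateMod.component X l (SGA7.pt (K := k) Ω) m z').toMul =
          SGA7.galAct σ (AbDual.TateMod.component X l (SGA7.pt (K := k) Ω) m z).toMul) →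
        (∀ m, (AbDual.TateMod.component X l (SGA7.pt (K := k) Ω) m w').toMul =
          SGA7.galAct σ (AbDual.TateMod.component X l (SGA7.pt (K := k) Ω) m w).toMul) →
        E z' w' = (q : ℤ_[l]) * E z w := by
  classical
  have hl0 : 0 < l := (Fact.out : l.Prime).pos
  have hlΩ : (l : Ω) ≠ 0 := by
    rw [← map_natCast (algebraMap k Ω)]
    exact (map_ne_zero _).2 hl
  obtain ⟨ζ, hζ⟩ := exists_roots Ω l hl0 hlΩ
  haveI : ∀ j, NeZero (l ^ (2 * j)) := fun j => ⟨pow_ne_zero _ hl0.ne'⟩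
  let χ : ℕ → ℤ_[l] → Ω := fun j a => ζ j ^ a.appr (2 * j)
  have hχmod : ∀ j (a b : ℕ), a ≡ b [MOD l ^ (2 * j)] → ζ j ^ a = ζ j ^ b := fun j a b h => by
    rw [pow_eq_pow_mod a (hζ j).1.pow_eq_one, pow_eq_pow_mod b (hζ j).1.pow_eq_one]
    exact congrArg _ h
  have hχadd : ∀ j a b, χ j (a + b) = χ j a * χ j b := fun j a b => by
    rw [← pow_add]; exact hχmod j _ _ (AbDual.appr_add_modEq _ a b)
  have hχmul : ∀ j (n : ℕ) a, χ j ((n : ℤ_[l]) * a) = χ j a ^ n := fun j n a => by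
    induction n with
    | zero =>
      rw [Nat.cast_zero, zero_mul, pow_zero]
      exact (hχmod j _ 0 (AbDual.appr_zero_modEq _)).trans (pow_zero _)
    | succ n ih => rw [Nat.cast_succ, add_mul, _root_.one_mul, hχadd, ih, pow_succ]
  have hχinj : ∀ a b : ℤ_[l], (∀ j, χ j a = χ j b) → a = b := fun a b h => by
    refine PadicInt.ext_of_toZModPow.1 fun n => ?_
    have h1 : PadicInt.toZModPow (2 * n) a = PadicInt.toZModPow (2 * n) b := by
      rw [AbDual.toZModPow_eq_appr, AbDual.toZModPow_eq_appr, ZMod.natCast_eq_natCast_iff]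
      have := h n
      change ζ n ^ a.appr (2 * n) = ζ n ^ b.appr (2 * n) at this
      rw [(hζ n).1.pow_inj (PadicInt.appr_lt _ _) (PadicInt.appr_lt _ _) this]
    rw [← PadicInt.cast_toZModPow n (2 * n) (by omega), h1, PadicInt.cast_toZModPow n (2 * n) (by omega)]
  let cmp : ∀ j, AbDual.TateMod X l (SGA7.pt (K := k) Ω) → (SGA7.pt (K := k) Ω ⟶ X) := fun j z =>
    (AbDual.TateMod.component X l (SGA7.pt (K := k) Ω) (2 * j) z).toMul
  have hlift : ∀ j z, HasLift (Ln c (l ^ (2 * j))) (cmp j z) := fun j z =>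
    hasLift_Ln Ω c _ (congrArg Additive.toMul (z.torsion (2 * j)))
  have hval : ∀ j z w, ∃ t : Ω, t ^ (l ^ (2 * j)) = 1 ∧ epsVal Ω c (l ^ (2 * j)) (cmp j z) (cmp j w) t := by
    intro j z w
    obtain ⟨t, ht⟩ := exists_isEps (isInvertible_Ln c _) (hlift j z) (hlift j w)
    refine ⟨ptVal Ω t, ?_, by rw [epsVal, RingEquiv.symm_apply_apply]; exact ht⟩
    rw [← map_pow, ht.pow_eq_one (isInvertible_Ln c _) (hlift j z) (hlift j w)
      (congrArg Additive.toMul (z.torsion (2 * j))), map_one]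
  choose ε hεt hε using hval
  have hεuniq : ∀ j z w t, epsVal Ω c (l ^ (2 * j)) (cmp j z) (cmp j w) t → t = ε j z w := fun j z w t ht =>
    (ptVal Ω).symm.injective (IsEps.unique (isInvertible_Ln c _) (hlift j z) (hlift j w) ht (hε j z w))
  have hstep : ∀ j z w, ε (j + 1) z w ^ (l * l) = ε j z w := by
    intro j z w
    obtain ⟨e⟩ := nonempty_pull_Ln c hc l (l ^ (2 * j))
    rw [show l * l * l ^ (2 * j) = l ^ (2 * (j + 1)) by rw [show 2 * (j + 1) = 2 + 2 * j by ring, pow_add, pow_two]] at e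
    let x' := (AbDual.TateMod.component X l (SGA7.pt (K := k) Ω) (2 * j + 1) z).toMul
    let y' := (AbDual.TateMod.component X l (SGA7.pt (K := k) Ω) (2 * j + 1) w).toMul
    have hxe : x' ≫ (𝟙 X ^ l) = cmp j z := by
      rw [MonObj.comp_pow, Category.comp_id]
      exact congrArg Additive.toMul (z.compat (2 * j))
    have hye : y' ≫ (𝟙 X ^ l) = cmp j w := by
      rw [MonObj.comp_pow, Category.comp_id]
      exact congrArg Additive.toMul (w.compat (2 * j))
    have hx2 : cmp (j + 1) z ^ l = x' := congrArg Additive.toMul (z.compat (2 * j + 1))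
    have hy2 : cmp (j + 1) w ^ l = y' := congrArg Additive.toMul (w.compat (2 * j + 1))
    haveI : IsMonHom (𝟙 X ^ l) := AVDeg.isMonHom_id_pow (A := X) l
    have h1 := IsEps.of_pull (isInvertible_Ln c (l ^ (2 * (j + 1)))) (𝟙 X ^ l) e (x := x') (y := y')
      (t := (ptVal Ω).symm (ε j z w)) (by rw [hxe]; exact hlift j z) (by rw [hye]; exact hlift j w)
      (by rw [hxe, hye]; exact hε j z w)
    have h2 := ((hε (j + 1) z w).pow_left (isInvertible_Ln c _) (hlift (j + 1) z) l).pow_right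
      (isInvertible_Ln c _) ((hlift (j + 1) z).pow l) (hlift (j + 1) w) l
    rw [hx2, hy2, ← pow_mul, ← map_pow] at h2
    exact (ptVal Ω).symm.injective (IsEps.unique (isInvertible_Ln c _) (hx2 ▸ (hlift (j + 1) z).pow l)
      (hy2 ▸ (hlift (j + 1) w).pow l) h2 h1)
  -- the exponent
  have hE : ∀ z w, ∃ a : ℤ_[l], ∀ j, χ j a = ε j z w := by
    intro z w
    have hex : ∀ j, ∃ i, ζ j ^ i = ε j z w := fun j => by
      obtain ⟨i, -, hi⟩ := (hζ j).1.eq_pow_of_pow_eq_one (hεt j z w)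
      exact ⟨i, hi⟩
    choose i hi using hex
    obtain ⟨a, ha⟩ := AVQuot.exists_cluster (l := l) (fun j => (i j : ℤ_[l]))
    refine ⟨a, fun j => ?_⟩
    obtain ⟨r, hr, b, hb⟩ := ha (2 * j)
    obtain ⟨d, rfl⟩ : ∃ d, r = j + d := ⟨r - j, by omega⟩
    have hdown : ∀ d, ζ j ^ i (j + d) = ε j z w := by
      intro d
      have hz' : ∀ d, ζ (j + d) ^ ((l * l) ^ d) = ζ j := fun d => by
        induction d with
        | zero => rw [pow_zero, pow_one]; rfl
        | succ d ih => rw [pow_succ', pow_mul, ← Nat.add_assoc, (hζ (j + d)).2, ih]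
      have he' : ∀ d, ε (j + d) z w ^ ((l * l) ^ d) = ε j z w := fun d => by
        induction d with
        | zero => rw [pow_zero, pow_one]; rfl
        | succ d ih => rw [pow_succ', pow_mul, ← Nat.add_assoc, hstep (j + d), ih]
      rw [← hz' d, ← pow_mul, mul_comm, pow_mul, hi, he' d]
    rw [← hdown d]
    refine hχmod j _ _ ?_
    rw [← ZMod.natCast_eq_natCast_iff, ← AbDual.toZModPow_eq_appr, ← map_natCast (PadicInt.toZModPow (p := l) (2 * j)),
      hb, map_add, smul_eq_mul, map_mul, map_pow, map_natCast, ← Nat.cast_pow, ZMod.natCast_self, zero_mul, add_zero]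
  choose Ef hEf using hE
  have hcmp : ∀ j z z', cmp j (z + z') = cmp j z * cmp j z' := fun j z z' => by
    show (AbDual.TateMod.component X l (SGA7.pt (K := k) Ω) (2 * j) (z + z')).toMul = _
    rw [map_add]; rfl
  have haddl : ∀ z z' w, Ef (z + z') w = Ef z w + Ef z' w := fun z z' w => hχinj _ _ fun j => by
    rw [hχadd, hEf, hEf, hEf]
    refine (hεuniq j _ w _ ?_).symm
    rw [epsVal, map_mul, hcmp]
    exact IsEps.mul_left (isInvertible_Ln c _) (hlift j z) (hlift j z') (hε j z w) (hε j z' w)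
  have hskew : ∀ z w, Ef z w + Ef w z = 0 := fun z w => hχinj _ _ fun j => by
    rw [hχadd, hEf, hEf, show χ j 0 = 1 from (hχmod j _ 0 (AbDual.appr_zero_modEq _)).trans (pow_zero _)]
    have := IsEps.swap (isInvertible_Ln c _) (hlift j z) (hlift j w) (hε j z w) (hε j w z)
    rw [← map_mul] at this
    exact (ptVal Ω).symm.injective (this.trans (map_one _).symm)
  have haddr : ∀ z w w', Ef z (w + w') = Ef z w + Ef z w' := fun z w w' => by
    rw [eq_neg_of_add_eq_zero_left (hskew z (w + w')), eq_neg_of_add_eq_zero_left (hskew z w),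
      eq_neg_of_add_eq_zero_left (hskew z w'), haddl, neg_add]
  have hlin : ∀ (f : AbDual.TateMod X l (SGA7.pt (K := k) Ω) →+ ℤ_[l]) (a : ℤ_[l]) z, f (a • z) = a * f z := by
    intro f a z
    refine PadicInt.ext_of_toZModPow.1 fun n => ?_
    obtain ⟨b, hb⟩ := Ideal.mem_span_singleton.1 (PadicInt.appr_spec n a)
    have e1 : a = ((a.appr n : ℕ) : ℤ_[l]) + ((l ^ n : ℕ) : ℤ_[l]) * b := by
      rw [Nat.cast_pow, ← hb, add_sub_cancel]
    have e2 : f (a • z) = ((a.appr n : ℕ) : ℤ_[l]) * f z + ((l ^ n : ℕ) : ℤ_[l]) * f (b • z) := by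
      conv_lhs => rw [e1, add_smul, mul_smul, Nat.cast_smul_eq_nsmul, Nat.cast_smul_eq_nsmul, map_add, map_nsmul,
        map_nsmul, nsmul_eq_mul, nsmul_eq_mul]
    rw [e2, map_add, map_mul, map_mul, map_mul, map_natCast, map_natCast, ← AbDual.toZModPow_eq_appr,
      ZMod.natCast_self, zero_mul, add_zero]
  let E : AbDual.TateMod X l (SGA7.pt (K := k) Ω) →ₗ[ℤ_[l]] AbDual.TateMod X l (SGA7.pt (K := k) Ω) →ₗ[ℤ_[l]] ℤ_[l] :=
    LinearMap.mk₂ ℤ_[l] Ef haddl
      (fun a z w => hlin (AddMonoidHom.mk' (fun z => Ef z w) fun z z' => haddl z z' w) a z) haddr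
      (fun a z w => hlin (AddMonoidHom.mk' (fun w => Ef z w) fun w w' => haddr z w w') a w)
  have hχ0 : ∀ j, χ j 0 = 1 := fun j => (hχmod j _ 0 (AbDual.appr_zero_modEq _)).trans (pow_zero _)
  refine ⟨E, fun z => hχinj _ _ fun j => ?_, fun z w h j => ?_, fun σ q hσ z w z' w' hz hw => hχinj _ _ fun j => ?_⟩
  · show χ j (Ef z z) = _
    rw [hEf, hχ0]
    refine (hεuniq j z z _ ?_).symm
    rw [epsVal, map_one]
    exact isEps_self (isInvertible_Ln c _) _
  · have := hε j z w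
    rw [← hEf, show Ef z w = 0 from h, hχ0, epsVal, map_one] at this
    exact this
  · show χ j (Ef z' w') = χ j ((q : ℤ_[l]) * Ef z w)
    rw [hχmul, hEf, hEf, ← hσ]
    refine (hεuniq j z' w' _ ?_).symm
    have := (hε j z w).comp (isInvertible_Ln c _) (hlift j z) (hlift j w) (SGA7.specAut σ)
    rw [epsVal, show cmp j z' = _ from hz (2 * j), show cmp j w' = _ from hw (2 * j)]
    have e : (ptVal Ω).symm (σ (ε j z w)) = (SGA7.specAut σ).left.appTop ((ptVal Ω).symm (ε j z w)) := by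
      apply (ptVal Ω).injective
      rw [RingEquiv.apply_symm_apply, ptVal_specAut, RingEquiv.apply_symm_apply]
    rw [e]
    exact this

end Groth.Agent.AVTheta
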