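import Groth.Agent.AVDeg.PointCount
import Groth.Prelude.Def_SGA7a
import Mathlib.FieldTheory.Finite.Extension

/-!
# The Frobenius endomorphism acts on geometric points as the Frobenius automorphism
-/

set_option autoImplicit false
set_option backward.isDefEq.respectTransparency false
set_option linter.style.haveILetI false

universe u

open CategoryTheory AlgebraicGeometry

noncomputable section

namespace Groth.Agent.AVTheta

/-- Frobenius of points. -/
theorem exists_frobAut {k Ω : Type u} [Field k] [Finite k] [Field Ω] [Algebra k Ω] [IsAlgClosure k Ω] :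
    ∃ σ : Ω ≃ₐ[k] Ω, (∀ a : Ω, σ a = a ^ Nat.card k) ∧
      ∀ (X : Over (Spec (CommRingCat.of k))) (π : X ⟶ X), π.left.base = 𝟙 _ →
        ∀ (hle : ∀ U : X.left.Opens, U ≤ π.left ⁻¹ᵁ U),
        (∀ (U : X.left.Opens) (s : Γ(X.left, U)), (π.left.appLE U U (hle U)).hom s = s ^ Nat.card k) →
          ∀ x : SGA7.pt (K := k) Ω ⟶ X, x ≫ π = SGA7.galAct σ x := by
  haveI := Fintype.ofFinite k
  haveI : Algebra.IsAlgebraic k Ω := IsAlgClosure.isAlgebraic
  let p := ringChar k
  haveI : Fact p.Prime := ⟨CharP.char_is_prime k p⟩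
  haveI : CharP Ω p := charP_of_injective_algebraMap (algebraMap k Ω).injective p
  haveI : ExpChar Ω p := ExpChar.prime Fact.out
  obtain ⟨e, -, he⟩ := FiniteField.card k p
  have hq : Nat.card k = p ^ (e : ℕ) := by rw [Nat.card_eq_fintype_card, he]
  refine ⟨FiniteField.frobeniusAlgEquivOfAlgebraic k Ω, fun a => by
    rw [Nat.card_eq_fintype_card]; rfl, fun X π hb hle happ x => Over.OverMorphism.ext ?_⟩
  haveI : FrobSch.IsCharP X.left p := FrobSch.IsCharP.of_hom X.hom p
  haveI : FrobSch.IsCharP (SGA7.pt (K := k) Ω).left p :=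
    inferInstanceAs (FrobSch.IsCharP (Spec (CommRingCat.of Ω)) p)
  show x.left ≫ π.left = Spec.map _ ≫ x.left
  rw [WeilLib.eq_frobPow p (e : ℕ) π.left hb hle (by rw [← hq]; exact happ), ← WeilLib.frobPow_comp p x.left]
  congr 1
  refine (WeilLib.frobPow_Spec p Ω (e : ℕ)).trans (congrArg Spec.map (CommRingCat.hom_ext (RingHom.ext fun a => ?_)))
  show iterateFrobenius Ω p e a = a ^ Fintype.card k
  rw [iterateFrobenius_def, he]

end Groth.Agent.AVTheta
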