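import Groth.Agent.ThetaLib.Split
import Groth.Agent.ThetaLib.Pull

/-!
# The commutator pairing of two liftable points
-/

set_option autoImplicit false
set_option backward.isDefEq.respectTransparency false
set_option backward.isDefEq.respectTransparency.types false
set_option linter.style.haveILetI false
set_option linter.unusedSectionVars false

universe u

open CategoryTheory CategoryTheory.Limits MonoidalCategory CartesianMonoidalCategory MonObj AlgebraicGeometry
open ThetaGrp (transl thetaObj thetaPts IsOverPt bcLift IsBaseChange)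

noncomputable section

namespace Groth.Agent.AVTheta

open ThetaLib

section Ratio

variable {S : Scheme.{u}} {A B : Over S} [GrpObj A] [GrpObj B] (f : A ⟶ B) [IsMonHom f]
  {L : A.left.Modules} {M : B.left.Modules} (e : (Scheme.Modules.pullback f.left).obj M ≅ L) {T : Over S}

/-- Ratios are preserved by inverse images. -/
theorem isRatio_desc {α' β' : thetaPts A L T} {α β : thetaPts B M T} {x y : T ⟶ A} (hx : IsOverPt α' x)
    (hy : IsOverPt β' y) (hxy : x = y) (hα : IsDescPt f e α' α) (hβ : IsDescPt f e β' β) {t : Γ(T.left, ⊤)}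
    (h : IsRatio α β t) : IsRatio α' β' t := by
  refine cancel_cart (descMap f e T) ?_ ?_
  · rw [act_base, show (hm α').base = _ from hx, show (hm β').base = _ from hy, hxy]
  · rw [act_comp, show hm α' ≫ _ = _ from hα, show hm β' ≫ _ = _ from hβ]
    rw [IsRatio] at h
    rw [h, comp_act, descMap_base, fnT_plMap]

/-- Inverses reverse ratios. -/
theorem isRatio_inv {α β : thetaPts A L T} {t : Γ(T.left, ⊤)} (h : IsRatio α β t) : IsRatio β⁻¹ α⁻¹ t := by
  have := (h.mul_left α⁻¹).mul_right β⁻¹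
  rwa [inv_mul_cancel, _root_.one_mul, mul_inv_cancel_right] at this

theorem isOverPt_inv {α : thetaPts A L T} {x : T ⟶ A} (h : IsOverPt α x) : IsOverPt α⁻¹ x⁻¹ := by
  obtain ⟨z, hz⟩ := exists_pt α⁻¹
  have h1 := isOverPt_mul hz h
  rw [inv_mul_cancel] at h1
  have h2 := pt_unique h1 isOverPt_one
  rw [eq_inv_of_mul_eq_one_right h2] at hz
  exact hz

theorem isOverPt_pow {α : thetaPts A L T} {x : T ⟶ A} (h : IsOverPt α x) (n : ℕ) : IsOverPt (α ^ n) (x ^ n) := by
  induction n with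
  | zero => rw [pow_zero, pow_zero]; exact isOverPt_one
  | succ n ih => rw [pow_succ, pow_succ']; exact isOverPt_mul ih h

theorem isDescPt_inv {α' : thetaPts A L T} {α : thetaPts B M T} {x : T ⟶ A} (hx : IsOverPt α' x)
    (hx' : IsOverPt α (x ≫ f)) (h : IsDescPt f e α' α) : IsDescPt f e α'⁻¹ α⁻¹ := by
  obtain ⟨β, hβ, hβx⟩ := exists_descPt f e (x := x⁻¹) (β := α⁻¹) (by rw [GrpObj.inv_comp]; exact isOverPt_inv hx')
  have h1 := isDescPt_mul f e hβ h
  rw [inv_mul_cancel] at h1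
  have h2 : IsOverPt (β * α') (1 : T ⟶ A) := by
    have := isOverPt_mul hβx hx
    rwa [mul_inv_cancel] at this
  rw [← eq_inv_of_mul_eq_one_left (isDescPt_unique f e h1 (isDescPt_one f e) h2 isOverPt_one)]
  exact hβ

end Ratio

section Eps

variable {k : Type u} [Field k] {A : Over (Spec (CommRingCat.of k))} [GrpObj A] [IsCommMonObj A] [IsProper A.hom]
  [GeometricallyIntegral A.hom] {L : A.left.Modules} {T T' : Over (Spec (CommRingCat.of k))}

/-- The commutator of all lifts of two points is the given function. -/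
def IsEps (L : A.left.Modules) (x y : T ⟶ A) (t : Γ(T.left, ⊤)) : Prop :=
  ∀ α β : thetaPts A L T, IsOverPt α x → IsOverPt β y → IsCom α β t

/-- The point lifts to the theta group. -/
def HasLift (L : A.left.Modules) (x : T ⟶ A) : Prop := ∃ α : thetaPts A L T, IsOverPt α x

theorem HasLift.mul {x y : T ⟶ A} (hx : HasLift L x) (hy : HasLift L y) : HasLift L (x * y) := by
  obtain ⟨α, hα⟩ := hx
  obtain ⟨β, hβ⟩ := hy
  exact ⟨β * α, isOverPt_mul hβ hα⟩

theorem hasLift_one : HasLift L (1 : T ⟶ A) := ⟨1, isOverPt_one⟩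

theorem HasLift.inv {x : T ⟶ A} (hx : HasLift L x) : HasLift L x⁻¹ := by
  obtain ⟨α, hα⟩ := hx
  exact ⟨α⁻¹, isOverPt_inv hα⟩

theorem HasLift.pow {x : T ⟶ A} (hx : HasLift L x) (n : ℕ) : HasLift L (x ^ n) := by
  obtain ⟨α, hα⟩ := hx
  exact ⟨α ^ n, isOverPt_pow hα n⟩

variable (hL : PicF.IsInvertible L)
include hL

theorem IsEps.unique {x y : T ⟶ A} (hx : HasLift L x) (hy : HasLift L y) {t t' : Γ(T.left, ⊤)} (h : IsEps L x y t)
    (h' : IsEps L x y t') : t = t' := by
  obtain ⟨α, hα⟩ := hx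
  obtain ⟨β, hβ⟩ := hy
  exact isCom_unique hL (h α β hα hβ) (h' α β hα hβ)

theorem isEps_of {x y : T ⟶ A} {α β : thetaPts A L T} (hα : IsOverPt α x) (hβ : IsOverPt β y) {t : Γ(T.left, ⊤)}
    (h : IsCom α β t) : IsEps L x y t :=
  fun _ _ hα' hβ' => isCom_indep hL fnT_surjective hα hα' hβ hβ' h

theorem exists_isEps {x y : T ⟶ A} (hx : HasLift L x) (hy : HasLift L y) : ∃ t, IsEps L x y t := by
  obtain ⟨α, hα⟩ := hx
  obtain ⟨β, hβ⟩ := hy
  obtain ⟨t, ht⟩ := exists_com hL fnT_surjective α β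
  exact ⟨t, isEps_of hL hα hβ ht⟩

theorem isEps_self (x : T ⟶ A) : IsEps L x x 1 := fun _ _ hα hβ => isCom_self hL fnT_surjective hα hβ

theorem isEps_one (y : T ⟶ A) : IsEps L 1 y 1 := fun α β hα hβ =>
  isCom_indep hL fnT_surjective (x := 1) (y := y) (α := 1) (β := β) isOverPt_one hα hβ hβ
    ((isCom_one_iff hL).2 (by rw [_root_.one_mul, _root_.mul_one]))

theorem IsEps.swap {x y : T ⟶ A} (hx : HasLift L x) (hy : HasLift L y) {t t' : Γ(T.left, ⊤)} (h : IsEps L x y t)
    (h' : IsEps L y x t') : t * t' = 1 := by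
  obtain ⟨α, hα⟩ := hx
  obtain ⟨β, hβ⟩ := hy
  have h1 : IsRatio (α * β) (β * α) t := h α β hα hβ
  have h2 : IsRatio (β * α) (α * β) t' := h' β α hβ hα
  exact (h1.trans h2).unique hL (isRatio_refl _)

theorem IsEps.mul_left {x y z : T ⟶ A} (hx : HasLift L x) (hy : HasLift L y) {s t : Γ(T.left, ⊤)}
    (h : IsEps L x z s) (h' : IsEps L y z t) : IsEps L (x * y) z (s * t) := by
  intro θ ν hθ hν
  obtain ⟨α, hα⟩ := hx
  obtain ⟨β, hβ⟩ := hy
  refine isCom_indep hL fnT_surjective (x := x * y) (y := z) (α := α * β) (β := ν) ?_ hθ hν hν ?_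
  · rw [_root_.mul_comm x y]; exact isOverPt_mul hα hβ
  show IsRatio (α * β * ν) (ν * (α * β)) (s * t)
  rw [_root_.mul_comm s t, _root_.mul_assoc α β ν, ← _root_.mul_assoc ν α β]
  have h1 : IsRatio (β * ν) (ν * β) t := h' β ν hβ hν
  have h2 : IsRatio (α * ν) (ν * α) s := h α ν hα hν
  refine (h1.mul_left α).trans ?_
  rw [← _root_.mul_assoc α ν β]
  exact h2.mul_right β

theorem IsEps.pow_left {x z : T ⟶ A} (hx : HasLift L x) {s : Γ(T.left, ⊤)} (h : IsEps L x z s) (n : ℕ) :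
    IsEps L (x ^ n) z (s ^ n) := by
  induction n with
  | zero => rw [pow_zero, pow_zero]; exact isEps_one hL z
  | succ n ih => rw [pow_succ, pow_succ]; exact ih.mul_left hL (hx.pow n) hx h

theorem IsEps.pow_right {x z : T ⟶ A} (hx : HasLift L x) (hz : HasLift L z) {s : Γ(T.left, ⊤)} (h : IsEps L x z s)
    (n : ℕ) : IsEps L x (z ^ n) (s ^ n) := by
  obtain ⟨s', hs'⟩ := exists_isEps hL hz hx
  obtain ⟨t, ht⟩ := exists_isEps hL hx (hz.pow n)
  have h1 := ht.swap hL hx (hz.pow n) (hs'.pow_left hL hz n)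
  have h2 : s ^ n * s' ^ n = 1 := by rw [← mul_pow, h.swap hL hx hz hs', one_pow]
  have e : t = s ^ n := by
    calc t = t * (s ^ n * s' ^ n) := by rw [h2, _root_.mul_one]
      _ = s ^ n * (t * s' ^ n) := by ring
      _ = s ^ n := by rw [h1, _root_.mul_one]
  exact e ▸ ht

/-- The values are killed by the order of the points. -/
theorem IsEps.pow_eq_one {x z : T ⟶ A} (hx : HasLift L x) (hz : HasLift L z) {s : Γ(T.left, ⊤)}
    (h : IsEps L x z s) {n : ℕ} (hn : x ^ n = 1) : s ^ n = 1 := by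
  have h1 := h.pow_left hL hx n
  rw [hn] at h1
  exact h1.unique hL hasLift_one hz (isEps_one hL z)

theorem IsEps.comp {x y : T ⟶ A} (hx : HasLift L x) (hy : HasLift L y) (g : T' ⟶ T) {t : Γ(T.left, ⊤)}
    (h : IsEps L x y t) : IsEps L (g ≫ x) (g ≫ y) (g.left.appTop t) := by
  obtain ⟨α, hα⟩ := hx
  obtain ⟨β, hβ⟩ := hy
  obtain ⟨α', hα', hα'x⟩ := exists_bc g hα
  obtain ⟨β', hβ', hβ'y⟩ := exists_bc g hβ
  exact isEps_of hL hα'x hβ'y (isCom_bc hα' hβ' (h α β hα hβ))

omit hL in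
/-- Lifts pull back. -/
theorem HasLift.comp {x : T ⟶ A} (hx : HasLift L x) (g : T' ⟶ T) : HasLift L (g ≫ x) := by
  obtain ⟨α, hα⟩ := hx
  obtain ⟨α', -, hα'⟩ := exists_bc g hα
  exact ⟨α', hα'⟩

variable {B : Over (Spec (CommRingCat.of k))} [GrpObj B] [IsCommMonObj B] [IsProper B.hom]
  [GeometricallyIntegral B.hom] {M : B.left.Modules} (f : A ⟶ B) [IsMonHom f]
  (e : (Scheme.Modules.pullback f.left).obj M ≅ L)

omit hL in
include e in
theorem HasLift.of_pull {x : T ⟶ A} (hx : HasLift M (x ≫ f)) : HasLift L x := by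
  obtain ⟨α, hα⟩ := hx
  obtain ⟨α', -, hα'⟩ := exists_descPt f e hα
  exact ⟨α', hα'⟩

include e in
/-- Naturality of the pairing. -/
theorem IsEps.of_pull {x y : T ⟶ A} (hx : HasLift M (x ≫ f)) (hy : HasLift M (y ≫ f)) {t : Γ(T.left, ⊤)}
    (h : IsEps M (x ≫ f) (y ≫ f) t) : IsEps L x y t := by
  obtain ⟨α, hα⟩ := hx
  obtain ⟨β, hβ⟩ := hy
  obtain ⟨α', hα', hα'x⟩ := exists_descPt f e hα
  obtain ⟨β', hβ', hβ'y⟩ := exists_descPt f e hβ
  exact isEps_of hL hα'x hβ'y (isRatio_desc f e (isOverPt_mul hα'x hβ'y) (isOverPt_mul hβ'y hα'x)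
    (_root_.mul_comm _ _) (isDescPt_mul f e hα' hβ') (isDescPt_mul f e hβ' hα') (h α β hα hβ))

end Eps

end Groth.Agent.AVTheta
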